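import Groth.Agent.BlowUpLib.Glue
import Groth.Agent.MorLib.IdealFG
import Mathlib.Topology.Constructible
import Mathlib.Topology.Spectral.Prespectral
import Mathlib.AlgebraicGeometry.Morphisms.QuasiSeparated

/-! # Finite type ideal sheaves with given support; separation of closed sets by blowing up -/

set_option autoImplicit false
universe u

namespace Groth.Agent.BlowSep

open AlgebraicGeometry CategoryTheory Limits TopologicalSpace Topology
open Scheme (IdealSheafData)

/-- Constructible subsets of a quasi-compact, quasi-separated space with a basis of compact opens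
are compact. -/
theorem isCompact_of_isConstructible {S : Type*} [TopologicalSpace S] [CompactSpace S]
    [QuasiSeparatedSpace S] [PrespectralSpace S] {s : Set S} (hs : IsConstructible s) :
    IsCompact s := by
  have : Nonempty {U : Set S // IsOpen U ∧ IsCompact U} := ⟨⟨∅, isOpen_empty, isCompact_empty⟩⟩
  induction s, hs using IsConstructible.induction_of_isTopologicalBasis
    (fun U : {U : Set S // IsOpen U ∧ IsCompact U} => (U : Set S)) with
  | basis => rw [Subtype.range_coe_subtype]; exact PrespectralSpace.isTopologicalBasis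
  | isCompact_basis i => exact i.2.2
  | sdiff i s hs => exact i.2.2.diff (isOpen_biUnion fun j _ => j.2.1)
  | union s hs t ht h1 h2 => exact h1.union h2

variable {X : Scheme.{u}}

/-- A closed subset of a qcqs scheme with quasi-compact complement is the support of a finite type
quasi-coherent ideal sheaf. -/
theorem exists_fg_support [CompactSpace X] [QuasiSeparatedSpace X] (W : X.Opens)
    (hW : IsCompact (W : Set X)) :
    ∃ J : X.IdealSheafData, BlowUp.IsFiniteTypeIdeal J ∧ (J.support : Set X) = (W : Set X)ᶜ := by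
  classical
  let Z : Closeds X := ⟨(W : Set X)ᶜ, W.2.isClosed_compl⟩
  let I := IdealSheafData.vanishingIdeal Z
  have hI : (I.support : Set X) = (W : Set X)ᶜ := IdealSheafData.coe_support_vanishingIdeal Z
  have key : ∀ V : X.affineOpens, ∃ K : X.IdealSheafData, K ≤ I ∧ (∀ U, (K.ideal U).FG) ∧
      Disjoint ((K.support : Set X) ∩ V.1) (W : Set X) := by
    intro V
    have hc : IsCompact ((W : Set X) ∩ V.1) := hW.inter_of_isOpen V.2.isCompact W.2 V.1.2
    have hcov : (W : Set X) ∩ V.1 ⊆ ⋃ f : I.ideal V, (X.basicOpen (f : Γ(X, V.1)) : Set X) := by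
      rintro x ⟨hxW, hxV⟩
      have hx : x ∉ I.support := fun hx => by
        have : x ∈ (I.support : Set X) := hx
        rw [hI] at this
        exact this hxW
      rw [IdealSheafData.mem_support_iff_of_mem hxV, Scheme.mem_zeroLocus_iff] at hx
      push_neg at hx
      obtain ⟨f, hf, hxf⟩ := hx
      exact Set.mem_iUnion.2 ⟨⟨f, hf⟩, hxf⟩
    obtain ⟨s, hs⟩ := hc.elim_finite_subcover _ (fun f => (X.basicOpen _).2) hcov
    obtain ⟨K, hK, hfg, hsK⟩ := MorLib.IdealFG.exists_fg_le I V
      (Ideal.span ((Subtype.val : I.ideal V → Γ(X, V.1)) '' (s : Set (I.ideal V))))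
      (Submodule.fg_span (s.finite_toSet.image _))
      (Ideal.span_le.2 (by rintro _ ⟨f, -, rfl⟩; exact f.2))
    refine ⟨K, hK, hfg, Set.disjoint_left.2 ?_⟩
    rintro x ⟨hxK, hxV⟩ hxW
    obtain ⟨f, hfs, hxf⟩ := Set.mem_iUnion₂.1 (hs ⟨hxW, hxV⟩)
    rw [SetLike.mem_coe, IdealSheafData.mem_support_iff_of_mem hxV, Scheme.mem_zeroLocus_iff] at hxK
    exact hxK f (hsK (Ideal.subset_span ⟨f, hfs, rfl⟩)) hxf
  choose K hKI hKfg hKd using key
  obtain ⟨t, ht⟩ := isCompact_univ.elim_finite_subcover (fun V : X.affineOpens => (V.1 : Set X))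
    (fun V => V.1.2) (fun x _ => by
      obtain ⟨_, ⟨U, hU, rfl⟩, hxU, -⟩ := X.isBasis_affineOpens.exists_subset_of_mem_open
        (Set.mem_univ x) isOpen_univ
      exact Set.mem_iUnion.2 ⟨⟨U, hU⟩, hxU⟩)
  refine ⟨t.sup K, ?_, subset_antisymm (fun x hx hxW => ?_) ?_⟩
  · refine Finset.sup_induction (p := BlowUp.IsFiniteTypeIdeal) (fun U => ?_)
      (fun J hJ J' hJ' U => Submodule.FG.sup (hJ U) (hJ' U)) (fun V _ => hKfg V)
    exact Submodule.fg_bot
  · obtain ⟨V, hV, hxV⟩ := Set.mem_iUnion₂.1 (ht (Set.mem_univ x))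
    exact Set.disjoint_left.1 (hKd V)
      ⟨IdealSheafData.support_antitone (Finset.le_sup hV) hx, hxV⟩ hxW
  · rw [← hI]
    exact IdealSheafData.support_antitone (Finset.sup_le fun V _ => hKI V)

/-- If `J₁ ⊔ J₂` becomes effective Cartier after pullback, then away from its support the vanishing
loci of `J₁` and `J₂` have disjoint closures. -/
theorem disjoint_closure_of_isEffCartier {Y : Scheme.{u}} (J₁ J₂ : Y.IdealSheafData)
    (h : BlowUp.IsEffCartierIdeal (J₁ ⊔ J₂)) :
    Disjoint (closure ((J₁.support : Set Y) \ (J₂.support : Set Y)))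
      (closure ((J₂.support : Set Y) \ (J₁.support : Set Y))) := by
  rw [Set.disjoint_left]
  intro y hy₁ hy₂
  obtain ⟨O, hyO, e, he, hO⟩ := h y
  rw [IdealSheafData.ideal_sup, Pi.sup_apply] at hO
  have hmem : e ∈ J₁.ideal O ⊔ J₂.ideal O := hO ▸ Ideal.mem_span_singleton_self e
  obtain ⟨p, hp, q, hq, hpq⟩ := Submodule.mem_sup.1 hmem
  obtain ⟨a, ha⟩ := Ideal.mem_span_singleton.1 (hO.le (Ideal.mem_sup_left hp))
  obtain ⟨b, hb⟩ := Ideal.mem_span_singleton.1 (hO.le (Ideal.mem_sup_right hq))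
  have hab : a + b = 1 := by
    refine mem_nonZeroDivisors_iff_left.1 he (a + b - 1) ?_ |> sub_eq_zero.1
    rw [mul_sub, mul_add, ← ha, ← hb, hpq, mul_one, sub_self]
  have hsep : ∀ (J J' : Y.IdealSheafData) (r : Γ(Y, O.1)), e * r ∈ J.ideal O →
      (∀ x, x ∈ O.1 → x ∈ (J.support : Set Y) → x ∉ (J'.support : Set Y) → x ∈ Y.basicOpen e) →
      y ∈ closure ((J.support : Set Y) \ (J'.support : Set Y)) → y ∉ Y.basicOpen r := by
    intro J J' r hr he' hy hyr
    obtain ⟨x, hxr, hxJ, hxJ'⟩ := mem_closure_iff.1 hy (Y.basicOpen r) (Y.basicOpen r).2 hyr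
    have hxO : x ∈ O.1 := Y.basicOpen_le r hxr
    have h1 := hxJ
    rw [SetLike.mem_coe, IdealSheafData.mem_support_iff_of_mem hxO, Scheme.mem_zeroLocus_iff] at h1
    refine h1 _ hr ?_
    rw [Scheme.basicOpen_mul]
    exact ⟨he' x hxO hxJ hxJ', hxr⟩
  have hsupp : ∀ x, x ∈ O.1 → ¬ (x ∈ (J₁.support : Set Y) ∧ x ∈ (J₂.support : Set Y)) →
      x ∈ Y.basicOpen e := by
    intro x hxO hx
    by_contra hxe
    apply hx
    have : x ∈ (J₁ ⊔ J₂).support := by
      rw [IdealSheafData.mem_support_iff_of_mem hxO, IdealSheafData.ideal_sup, Pi.sup_apply, hO,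
        Scheme.zeroLocus_span, Scheme.zeroLocus_singleton]
      exact hxe
    rw [IdealSheafData.support_sup] at this
    exact this
  have ha' : y ∉ Y.basicOpen a := hsep J₁ J₂ a (ha ▸ hp)
    (fun x hxO _ hx => hsupp x hxO fun h => hx h.2) hy₁
  have hb' : y ∉ Y.basicOpen b := hsep J₂ J₁ b (hb ▸ hq)
    (fun x hxO _ hx => hsupp x hxO fun h => hx h.1) hy₂
  have h1 : y ∈ Y.basicOpen (a + b) := by
    rw [hab, Scheme.basicOpen_of_isUnit _ isUnit_one]
    exact hyO
  exact (Y.basicOpen_add_le a b h1).elim ha' hb'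

end Groth.Agent.BlowSep
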